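import Groth.Agent.RelApprox.Setup

/-!
Sections of the common open are the colimit of the sections of its stages; a good bottom stage.
-/

set_option autoImplicit false
set_option backward.isDefEq.respectTransparency false
universe u
open CategoryTheory CategoryTheory.Limits AlgebraicGeometry Opposite

namespace Groth.Agent.RelApprox

open AbsApprox

namespace Step

variable (d : Step.{u})

instance (i : d.Iᵒᵖ) : CompactSpace (d.DW.obj i) := inferInstanceAs (CompactSpace (d.Wo i).toScheme)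
instance (i : d.Iᵒᵖ) : QuasiSeparatedSpace (d.DW.obj i) := inferInstanceAs (QuasiSeparatedSpace (d.Wo i).toScheme)

instance (i : d.Iᵒᵖ) : IsLocallyNoetherian (d.DW.obj i) := inferInstanceAs (IsLocallyNoetherian (d.Wo i).toScheme)

instance {i j : d.Iᵒᵖ} (f : i ⟶ j) : IsAffineHom (d.DW.map f) :=
  MorphismProperty.of_isPullback (P := @IsAffineHom)
    (IsOpenImmersion.isPullback (d.DW.map f) (d.ιW.app i) (d.ιW.app j) (d.D.map f) (d.ιW.naturality f).symm
      (TopologicalSpace.Opens.ext (d.range_ιW f))).flip inferInstance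

theorem isCofiltered' : IsCofiltered d.Iᵒᵖ := isCofiltered_op_of_isFiltered _

theorem exists_ge_forall_mem (i : d.I) (t : Finset Γ(d.W.toScheme, ⊤)) :
    ∃ j, i ≤ j ∧ ∀ x ∈ t, x ∈ (d.ρ (op j)).range := by
  classical
  induction t using Finset.induction with
  | empty => exact ⟨i, le_rfl, by simp⟩
  | insert x t _ ih =>
    obtain ⟨j, hij, hj⟩ := ih
    have := d.isCofiltered'
    obtain ⟨⟨k⟩, y, hy⟩ := exists_appTop_π_eq_of_isLimit d.DW d.cW d.isLimitCW (show Γ(d.cW.pt, ⊤) from x)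
    obtain ⟨l, hl, hl'⟩ := exists_ge_ge j k
    refine ⟨l, hij.trans hl, fun z hz => ?_⟩
    rcases Finset.mem_insert.1 hz with rfl | hz
    · exact d.range_ρ_mono (homOfLE hl').op ⟨y, hy.symm⟩
    · exact d.range_ρ_mono (homOfLE hl).op (hj z hz)

theorem exists_ρ_eq (i : d.I) (u : Γ(d.W.toScheme, ⊤)) : ∃ k, i ≤ k ∧ u ∈ (d.ρ (op k)).range := by
  obtain ⟨j, hij, hj⟩ := d.exists_ge_forall_mem i {u}
  exact ⟨j, hij, hj u (Finset.mem_singleton_self u)⟩

theorem exists_map_eq_zero {i : d.I} (x : Γ((d.Wo (op i)).toScheme, ⊤)) (hx : d.ρ (op i) x = 0) :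
    ∃ (k : d.I) (h : i ≤ k), (d.DW.map (homOfLE h).op).appTop x = 0 := by
  have := d.isCofiltered'
  obtain ⟨⟨k⟩, f, hf⟩ := exists_appTop_map_eq_zero_of_isLimit d.DW d.cW d.isLimitCW
    (i := op i) (show Γ(d.DW.obj (op i), ⊤) from x) hx
  refine ⟨k, leOfHom f.unop, ?_⟩
  rw [Subsingleton.elim (homOfLE (leOfHom f.unop)).op f]
  exact hf

/-- the restriction of a function to the common open, as a basic open -/
theorem basicOpen_r (f : d.A) :
    d.W.toScheme.basicOpen (d.r f) = d.W.ι ⁻¹ᵁ (PrimeSpectrum.basicOpen f) := by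
  exact (Scheme.preimage_basicOpen_top d.W.ι _).symm.trans
    (congrArg (d.W.ι ⁻¹ᵁ ·) (basicOpen_eq_of_affine (R := CommRingCat.of d.A) f))

theorem basicOpen_le {f : d.A} (hf : f ∈ d.s) : PrimeSpectrum.basicOpen f ≤ d.W :=
  d.hs ▸ le_iSup₂ (f := fun f (_ : f ∈ d.s) => PrimeSpectrum.basicOpen f) f hf

theorem iSup_basicOpen_r : (⨆ f ∈ d.s, d.W.toScheme.basicOpen (d.r f)) = ⊤ := by
  simp only [basicOpen_r, ← Scheme.Hom.preimage_iSup, ← d.hs, Scheme.Opens.ι_preimage_self]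

theorem preimage_basicOpen_ρ {i : d.Iᵒᵖ} (g : Γ((d.Wo i).toScheme, ⊤)) :
    d.pW i ⁻¹ᵁ (d.Wo i).toScheme.basicOpen g = d.W.toScheme.basicOpen (d.ρ i g) :=
  Scheme.preimage_basicOpen_top _ _

theorem exists_affine_cover (i : d.I) :
    ∃ (j : d.I) (g : d.A → Γ((d.Wo (op j)).toScheme, ⊤)), i ≤ j ∧ (∀ f ∈ d.s, d.ρ (op j) (g f) = d.r f) ∧
      (⨆ f ∈ d.s, (d.Wo (op j)).toScheme.basicOpen (g f)) = ⊤ ∧
      ∀ f ∈ d.s, IsAffineOpen ((d.Wo (op j)).toScheme.basicOpen (g f)) := by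
  classical
  have := d.isCofiltered'
  obtain ⟨j, hij, hj⟩ := d.exists_ge_forall_mem i (d.s.image d.r)
  let g : d.A → Γ((d.Wo (op j)).toScheme, ⊤) := Function.invFun (d.ρ (op j)) ∘ d.r
  have hg : ∀ f ∈ d.s, d.ρ (op j) (g f) = d.r f := fun f hf =>
    Function.invFun_eq (hj _ (Finset.mem_image_of_mem _ hf))
  -- the opens cover at a later stage
  obtain ⟨⟨k⟩, φ, hφ⟩ := exists_map_eq_top d.DW d.cW d.isLimitCW (i := op j)
    (⨆ f ∈ d.s, (d.Wo (op j)).toScheme.basicOpen (g f)) (by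
      rw [← top_le_iff, ← d.iSup_basicOpen_r]
      refine iSup₂_le fun f hf => ?_
      rw [← hg f hf, ← preimage_basicOpen_ρ]
      exact Scheme.Hom.preimage_mono _ (le_iSup₂ (f := fun f (_ : f ∈ d.s) => (d.Wo (op j)).toScheme.basicOpen (g f)) f hf))
  -- and become affine
  have haff : ∀ f ∈ d.s, ∃ l : Over (op j), IsAffineOpen (d.DW.map l.hom ⁻¹ᵁ (d.Wo (op j)).toScheme.basicOpen (g f)) := by
    intro f hf
    let O : (d.DW.obj (op j)).Opens := (d.Wo (op j)).toScheme.basicOpen (g f)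
    have hOc : IsCompact (O : Set (d.DW.obj (op j))) :=
      have : IsNoetherian (d.DW.obj (op j)) := {}
      TopologicalSpace.NoetherianSpace.isCompact _
    have (l : Over (op j)) : CompactSpace ((opensDiagram d.DW (op j) O).obj l) :=
      isCompact_iff_compactSpace.mp ((d.DW.map l.hom).isCompact_preimage hOc)
    have (l : Over (op j)) : QuasiSeparatedSpace ((opensDiagram d.DW (op j) O).obj l) :=
      inferInstanceAs (QuasiSeparatedSpace (d.DW.map l.hom ⁻¹ᵁ O).toScheme)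
    have : IsAffine (opensCone d.DW d.cW (op j) O).pt := by
      show IsAffineOpen (d.pW (op j) ⁻¹ᵁ (d.Wo (op j)).toScheme.basicOpen (g f))
      rw [preimage_basicOpen_ρ, hg f hf, basicOpen_r]
      have hb : (Spec (CommRingCat.of d.A)).basicOpen ((Scheme.ΓSpecIso (CommRingCat.of d.A)).inv f) =
          PrimeSpectrum.basicOpen f := basicOpen_eq_of_affine (R := CommRingCat.of d.A) f
      refine IsAffineOpen.preimage_of_isOpenImmersion ?_ d.W.ι ?_
      · rw [← hb]; exact (isAffineOpen_top _).basicOpen _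
      · rw [Scheme.Opens.opensRange_ι]; exact d.basicOpen_le hf
    exact Scheme.exists_isAffine_of_isLimit _ _ (isLimitOpensCone d.DW d.cW d.isLimitCW (op j) O)
  choose l' hl' using haff
  let l : d.A → Over (op j) := fun f => if hf : f ∈ d.s then l' f hf else Over.mk φ
  have hl : ∀ f ∈ d.s, IsAffineOpen (d.DW.map (l f).hom ⁻¹ᵁ (d.Wo (op j)).toScheme.basicOpen (g f)) := fun f hf => by
    rw [show l f = l' f hf from dif_pos hf]; exact hl' f hf
  obtain ⟨m', hm'⟩ := IsCofiltered.inf_objs_exists (insert (Over.mk φ) (d.s.image l))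
  let m : d.I := m'.left.unop
  have hpre : ∀ f : d.A, d.DW.map m'.hom ⁻¹ᵁ (d.Wo (op j)).toScheme.basicOpen (g f) =
      (d.Wo (op m)).toScheme.basicOpen ((d.DW.map m'.hom).appTop (g f)) := fun f => Scheme.preimage_basicOpen_top _ _
  refine ⟨m, fun f => (d.DW.map m'.hom).appTop (g f), hij.trans (leOfHom m'.hom.unop), fun f hf => ?_, ?_, fun f hf => ?_⟩
  · exact (d.ρ_map m'.hom (g f)).trans (hg f hf)
  · have e : m' ⟶ Over.mk φ := (hm' (Finset.mem_insert_self _ _)).some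
    have : (d.DW.map m'.hom) ⁻¹ᵁ (⨆ f ∈ d.s, (d.Wo (op j)).toScheme.basicOpen (g f)) = ⊤ := by
      rw [← Over.w e, Functor.map_comp, Scheme.Hom.comp_preimage]
      erw [hφ]
      rfl
    simp only [Scheme.Hom.preimage_iSup] at this
    refine Eq.trans ?_ this
    exact iSup_congr fun f => iSup_congr fun _ => (hpre f).symm
  · have e : m' ⟶ l f := (hm' (Finset.mem_insert_of_mem (Finset.mem_image_of_mem l hf))).some
    have h := (hl f hf).preimage (d.DW.map e.left)
    rw [← Scheme.Hom.comp_preimage, ← Functor.map_comp, Over.w e] at h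
    exact (hpre f) ▸ h

theorem r_apply (a : d.A) :
    d.r a = (Spec (CommRingCat.of d.A)).presheaf.map (homOfLE le_top).op ((Scheme.ΓSpecIso (CommRingCat.of d.A)).inv a) := by
  show d.W.ι.appTop.hom _ = _
  rw [Scheme.Opens.ι_appTop]
  rfl

theorem exists_r_eq {f : d.A} (hf : f ∈ d.s) (u : Γ(d.W.toScheme, ⊤)) :
    ∃ (N : ℕ) (a : d.A), d.r a = d.r f ^ N * u := by
  have hW : IsCompact (SetLike.coe (d.W.ι ''ᵁ ⊤ : (Spec (CommRingCat.of d.A)).Opens)) := by
    rw [Scheme.Opens.ι_image_top, d.hs]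
    simp only [TopologicalSpace.Opens.coe_iSup]
    exact d.s.finite_toSet.isCompact_biUnion fun f _ => PrimeSpectrum.isCompact_basicOpen f
  have hle : (Spec (CommRingCat.of d.A)).basicOpen ((Scheme.ΓSpecIso (CommRingCat.of d.A)).inv f) ≤ d.W.ι ''ᵁ ⊤ := by
    rw [Scheme.Opens.ι_image_top]
    exact (basicOpen_eq_of_affine (R := CommRingCat.of d.A) f).trans_le (d.basicOpen_le hf)
  obtain ⟨N, a, ha⟩ := exists_res_eq_pow_mul hW _ hle (show Γ(Spec (CommRingCat.of d.A), d.W.ι ''ᵁ ⊤) from u)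
  refine ⟨N, (Scheme.ΓSpecIso (CommRingCat.of d.A)).hom a, ?_⟩
  rw [r_apply, r_apply, Iso.hom_inv_id_apply]
  exact ha

theorem exists_pow_mul_eq_zero {f : d.A} (hf : f ∈ d.s) {a : d.A} (h : d.r a = 0) : ∃ N : ℕ, f ^ N * a = 0 := by
  have hle : (Spec (CommRingCat.of d.A)).basicOpen ((Scheme.ΓSpecIso (CommRingCat.of d.A)).inv f) ≤ d.W.ι ''ᵁ ⊤ := by
    rw [Scheme.Opens.ι_image_top]
    exact (basicOpen_eq_of_affine (R := CommRingCat.of d.A) f).trans_le (d.basicOpen_le hf)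
  rw [r_apply] at h
  obtain ⟨N, hN⟩ := exists_pow_mul_eq_zero_of_res _ hle _ h
  refine ⟨N, (Scheme.ΓSpecIso (CommRingCat.of d.A)).symm.commRingCatIsoToRingEquiv.injective ?_⟩
  show (Scheme.ΓSpecIso (CommRingCat.of d.A)).inv (f ^ N * a) = (Scheme.ΓSpecIso (CommRingCat.of d.A)).inv 0
  rw [map_mul, map_pow, map_zero, hN]

end Step

end Groth.Agent.RelApprox
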