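import Groth.Agent.RelApprox.Good

/-!
The gluing step of relative approximation.
-/

set_option autoImplicit false
set_option backward.isDefEq.respectTransparency false
set_option maxHeartbeats 800000
set_option linter.style.haveILetI false
universe u
open CategoryTheory CategoryTheory.Limits AlgebraicGeometry Opposite

open Groth.Agent.LimModel (isOpenImmersion_inl isOpenImmersion_inr inl_range_sup_inr_range)

namespace Groth.Agent.RelApprox

open AbsApprox

namespace Step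

variable (d : Step.{u})

/-- the transition maps of the products -/
noncomputable def tr {k l : d.I} (h : k ≤ l) : d.Γk k × d.A →+* d.Γk l × d.A :=
  RingHom.prodMap (d.res h) (RingHom.id d.A)

theorem tr_apply {k l : d.I} (h : k ≤ l) (x : d.Γk k × d.A) : d.tr h x = (d.res h x.1, x.2) := rfl

noncomputable instance : Preorder d.Idx where
  le a b := ∃ h : a.k ≤ b.k, ∀ x ∈ a.B, d.tr h x ∈ b.B
  le_refl a := ⟨le_rfl, fun x hx => by rw [tr_apply, res_self]; exact hx⟩
  le_trans a b c := by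
    rintro ⟨h, hab⟩ ⟨h', hbc⟩
    refine ⟨h.trans h', fun x hx => ?_⟩
    have := hbc _ (hab x hx)
    rwa [tr_apply, tr_apply, res_res] at this

theorem le_k {a b : d.Idx} (h : a ≤ b) : a.k ≤ b.k := h.1

theorem le_mem {a b : d.Idx} (h : a ≤ b) {x : d.Γk a.k × d.A} (hx : x ∈ a.B) : d.tr (d.le_k h) x ∈ b.B := h.2 x hx

/-- the transition maps of the rings -/
noncomputable def φR {a b : d.Idx} (h : a ≤ b) : a.B →+* b.B where
  toFun x := ⟨d.tr (d.le_k h) x.1, d.le_mem h x.2⟩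
  map_one' := Subtype.ext (map_one (d.tr (d.le_k h)))
  map_mul' x y := Subtype.ext (map_mul (d.tr (d.le_k h)) x.1 y.1)
  map_zero' := Subtype.ext (map_zero (d.tr (d.le_k h)))
  map_add' x y := Subtype.ext (map_add (d.tr (d.le_k h)) x.1 y.1)

theorem φR_fst {a b : d.Idx} (h : a ≤ b) (x : a.B) : (d.φR h x).1.1 = d.res (d.le_k h) x.1.1 := rfl

theorem φR_snd {a b : d.Idx} (h : a ≤ b) (x : a.B) : (d.φR h x).1.2 = x.1.2 := rfl

/-- the system of rings -/
noncomputable def ringF : d.Idx ⥤ CommRingCat.{u} where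
  obj a := CommRingCat.of a.B
  map h := CommRingCat.ofHom (d.φR (leOfHom h))
  map_id a := CommRingCat.hom_ext (RingHom.ext fun x => Subtype.ext (by
    show d.tr _ x.1 = x.1
    rw [tr_apply, res_self]))
  map_comp {a b c} h h' := CommRingCat.hom_ext (RingHom.ext fun x => Subtype.ext (by
    show d.tr _ x.1 = d.tr _ (d.tr _ x.1)
    rw [tr_apply, tr_apply, tr_apply, res_res]))

/-- the cocone to `A` -/
noncomputable def ringCocone : Cocone d.ringF where
  pt := CommRingCat.of d.A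
  ι :=
  { app := fun a => CommRingCat.ofHom ((RingHom.snd (d.Γk a.k) d.A).comp a.B.val.toRingHom)
    naturality := fun _ _ _ => CommRingCat.hom_ext (RingHom.ext fun _ => rfl) }

theorem exists_above (a : d.Idx) {k : d.I} (h : a.k ≤ k) (G : Finset (d.Γk k × d.A))
    (hG : ∀ x ∈ G, d.ρ (op k) x.1 = d.r x.2) : ∃ c : d.Idx, a ≤ c ∧ k ≤ c.k := by
  classical
  obtain ⟨S, hS⟩ := a.fg
  obtain ⟨B, hB1, hB2, hB3, hB4, hB5, hB6⟩ := d.exists_idx k (a.hk.trans h) (S.image (d.tr h) ∪ G) (fun x hx => by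
    rcases Finset.mem_union.1 hx with hx | hx
    · obtain ⟨y, hy, rfl⟩ := Finset.mem_image.1 hx
      rw [tr_apply, ρ_res]
      exact a.compat y (hS ▸ Algebra.subset_adjoin hy)
    · exact hG x hx)
  refine ⟨⟨k, a.hk.trans h, B, hB1, hB2, hB3, hB4, hB5⟩, ⟨h, fun x hx => ?_⟩, le_rfl⟩
  have hle : a.B ≤ subalgebraOfSubring (B.toSubring.comap (d.tr h)) := by
    rw [← hS]
    exact Algebra.adjoin_le fun y hy => hB6 _ (Finset.mem_union_left _ (Finset.mem_image_of_mem _ hy))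
  exact hle hx

theorem directed_Idx : IsDirected d.Idx (fun a b => a ≤ b) := ⟨fun a b => by
  classical
  obtain ⟨k, hk, hk'⟩ := exists_ge_ge a.k b.k
  obtain ⟨S, hS⟩ := a.fg
  obtain ⟨T, hT⟩ := b.fg
  obtain ⟨B, hB1, hB2, hB3, hB4, hB5, hB6⟩ := d.exists_idx k (a.hk.trans hk) (S.image (d.tr hk) ∪ T.image (d.tr hk'))
    (fun x hx => by
      rcases Finset.mem_union.1 hx with hx | hx
      · obtain ⟨y, hy, rfl⟩ := Finset.mem_image.1 hx
        rw [tr_apply, ρ_res]
        exact a.compat y (hS ▸ Algebra.subset_adjoin hy)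
      · obtain ⟨y, hy, rfl⟩ := Finset.mem_image.1 hx
        rw [tr_apply, ρ_res]
        exact b.compat y (hT ▸ Algebra.subset_adjoin hy))
  refine ⟨⟨k, a.hk.trans hk, B, hB1, hB2, hB3, hB4, hB5⟩, ⟨hk, fun x hx => ?_⟩, ⟨hk', fun x hx => ?_⟩⟩
  · have hle : a.B ≤ subalgebraOfSubring (B.toSubring.comap (d.tr hk)) := by
      rw [← hS]
      exact Algebra.adjoin_le fun y hy => hB6 _ (Finset.mem_union_left _ (Finset.mem_image_of_mem _ hy))
    exact hle hx
  · have hle : b.B ≤ subalgebraOfSubring (B.toSubring.comap (d.tr hk')) := by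
      rw [← hT]
      exact Algebra.adjoin_le fun y hy => hB6 _ (Finset.mem_union_right _ (Finset.mem_image_of_mem _ hy))
    exact hle hx⟩

theorem nonempty_Idx : Nonempty d.Idx := by
  obtain ⟨B, hB1, hB2, hB3, hB4, hB5, -⟩ := d.exists_idx d.i₁ le_rfl ∅ (by simp)
  exact ⟨⟨d.i₁, le_rfl, B, hB1, hB2, hB3, hB4, hB5⟩⟩

theorem isFiltered_Idx : IsFiltered d.Idx :=
  have := d.directed_Idx
  have : IsDirectedOrder d.Idx := d.directed_Idx
  have := d.nonempty_Idx
  inferInstance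

/-- the projection to the given system -/
noncomputable def toI : d.Idx →o d.I := ⟨fun a => a.k, fun _ _ h => h.1⟩

theorem initial_toI : d.toI.monotone.functor.op.Initial :=
  have := d.directed_Idx
  have := d.nonempty_Idx
  final_of_cofinal d.toI fun i => by
    obtain ⟨a⟩ := d.nonempty_Idx
    obtain ⟨k, hk, hk'⟩ := exists_ge_ge a.k i
    obtain ⟨c, -, hc⟩ := d.exists_above a hk ∅ (by simp)
    exact ⟨c, hk'.trans hc⟩

/-- the rings have colimit `A` -/
noncomputable def ringColimit : IsColimit d.ringCocone := by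
  classical
  haveI := d.isFiltered_Idx
  haveI : PreservesColimit d.ringF (forget CommRingCat.{u}) :=
    (inferInstance : PreservesFilteredColimits (forget CommRingCat.{u})).preserves_filtered_colimits _ |>.preservesColimit
  haveI : ReflectsColimit d.ringF (forget CommRingCat.{u}) := reflectsColimit_of_reflectsIsomorphisms _ _
  refine isColimitOfReflects (forget CommRingCat.{u}) (Types.FilteredColimit.isColimitOf _ _ ?_ ?_)
  · intro (x : d.A)
    obtain ⟨k, hk, z, hz⟩ := d.exists_ρ_eq d.i₁ (d.r x)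
    obtain ⟨B, hB1, hB2, hB3, hB4, hB5, hB6⟩ := d.exists_idx k hk {(z, x)} (by simpa using hz)
    exact ⟨⟨k, hk, B, hB1, hB2, hB3, hB4, hB5⟩, ⟨(z, x), hB6 _ (Finset.mem_singleton_self _)⟩, rfl⟩
  · intro a b (x : a.B) (y : b.B) hxy
    have hxy' : x.1.2 = y.1.2 := hxy
    haveI := d.directed_Idx
    obtain ⟨c, hac, hbc⟩ := exists_ge_ge a b
    have h0 : d.ρ (op c.k) (d.res (d.le_k hac) x.1.1 - d.res (d.le_k hbc) y.1.1) = 0 := by
      rw [map_sub, ρ_res, ρ_res, a.compat _ x.2, b.compat _ y.2, hxy', sub_self]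
    obtain ⟨k, hk, hk0⟩ := d.exists_map_eq_zero _ h0
    obtain ⟨c', hcc', hk'⟩ := d.exists_above c hk ∅ (by simp)
    refine ⟨c', homOfLE (hac.trans hcc'), homOfLE (hbc.trans hcc'), ?_⟩
    show d.φR (hac.trans hcc') x = d.φR (hbc.trans hcc') y
    refine Subtype.ext ?_
    refine Prod.ext ?_ (by rw [φR_snd, φR_snd, hxy'])
    rw [φR_fst, φR_fst]
    have hk1 : d.res hk (d.res (d.le_k hac) x.1.1) = d.res hk (d.res (d.le_k hbc) y.1.1) :=
      sub_eq_zero.1 ((map_sub (d.res hk) _ _).symm.trans hk0)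
    have hk2 := congrArg (d.res hk') hk1
    simpa only [res_res] using hk2

/-- the `U` side -/
noncomputable abbrev DU : (d.Idx)ᵒᵖ ⥤ Scheme.{u} := d.toI.monotone.functor.op ⋙ d.D

/-- the affine side -/
noncomputable abbrev DA : (d.Idx)ᵒᵖ ⥤ Scheme.{u} := d.ringF.op ⋙ Scheme.Spec

/-- the common open -/
noncomputable abbrev DJ : (d.Idx)ᵒᵖ ⥤ Scheme.{u} := d.toI.monotone.functor.op ⋙ d.DW

/-- the natural inclusion of the common open into the affine side -/
noncomputable def g : d.DJ ⟶ d.DA where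
  app p := d.θB p.unop.k p.unop.B
  naturality p q h := by
    show d.DW.map _ ≫ d.θB _ _ = d.θB _ _ ≫ Spec.map _
    simp only [θB, Category.assoc]
    erw [Scheme.toSpecΓ_naturality_assoc]
    rw [← Spec.map_comp, ← Spec.map_comp]
    refine congrArg (fun t => _ ≫ Spec.map t) (CommRingCat.hom_ext (RingHom.ext fun x => ?_))
    rfl

instance (p : (d.Idx)ᵒᵖ) : IsOpenImmersion (d.g.app p) := p.unop.open_θ

/-- the natural inclusion of the common open into the `U` side -/
noncomputable def f : d.DJ ⟶ d.DU := Functor.whiskerLeft d.toI.monotone.functor.op d.ιW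

instance (p : (d.Idx)ᵒᵖ) : IsOpenImmersion (d.f.app p) := inferInstanceAs (IsOpenImmersion (d.ιW.app _))

theorem hfpre {p p' : (d.Idx)ᵒᵖ} (φ : p ⟶ p') : d.DU.map φ ⁻¹' Set.range (d.f.app p') ⊆ Set.range (d.f.app p) :=
  (d.range_ιW _).le

theorem WB_le_of_le {a b : d.Idx} (h : a ≤ b) (x : PrimeSpectrum b.B)
    (hx : PrimeSpectrum.comap (d.φR h) x ∈ d.WB a.k a.hk a.B) : x ∈ d.WB b.k b.hk b.B := by
  rw [WB] at hx ⊢
  obtain ⟨f, hf⟩ := Set.mem_iUnion.1 hx
  obtain ⟨hf, hfB⟩ := Set.mem_iUnion.1 hf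
  obtain ⟨hfB, hp⟩ := Set.mem_iUnion.1 hfB
  refine Set.mem_iUnion.2 ⟨f, Set.mem_iUnion.2 ⟨hf, Set.mem_iUnion.2 ⟨b.mem f hf, ?_⟩⟩⟩
  have e : d.φR h ⟨_, hfB⟩ = ⟨_, b.mem f hf⟩ := Subtype.ext (Prod.ext
    ((d.φR_fst h ⟨_, hfB⟩).trans (d.res_gk a.hk (d.le_k h) f)) (d.φR_snd h ⟨_, hfB⟩))
  exact e ▸ hp

theorem hgpre {p p' : (d.Idx)ᵒᵖ} (φ : p ⟶ p') : d.DA.map φ ⁻¹' Set.range (d.g.app p') ⊆ Set.range (d.g.app p) := by
  intro x hx
  exact p.unop.range_θ.ge (d.WB_le_of_le (leOfHom φ.unop) x (p'.unop.range_θ.le hx))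

/-- the cone of the `U` side -/
noncomputable def cU : Cone d.DU := (Cone.mk d.U d.π).whisker _

/-- the cone of the affine side -/
noncomputable def cA : Cone d.DA := Scheme.Spec.mapCone d.ringCocone.op

/-- the cone of the common open -/
noncomputable def cJ : Cone d.DJ := d.cW.whisker _

theorem pW_θ (p : (d.Idx)ᵒᵖ) : d.pW (op p.unop.k) ≫ d.g.app p = d.W.ι ≫ d.cA.π.app p := by
  haveI : IsAffine (d.DA.obj p) := inferInstanceAs (IsAffine (Spec _))
  refine ext_of_isAffine ?_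
  ext b
  have e1 : (d.g.app p).appTop b = ((Scheme.ΓSpecIso (CommRingCat.of p.unop.B)).hom b).1.1 := by
    show ((d.Wo (op p.unop.k)).toScheme.toSpecΓ ≫ Spec.map (CommRingCat.ofHom
      ((RingHom.fst (d.Γk p.unop.k) d.A).comp p.unop.B.val.toRingHom))).appTop b = _
    simp only [Scheme.Hom.comp_appTop, Scheme.toSpecΓ_appTop, Scheme.ΓSpecIso_naturality]
    rfl
  show d.ρ (op p.unop.k) ((d.g.app p).appTop b) = d.W.ι.appTop ((d.cA.π.app p).appTop b)
  rw [e1, p.unop.compat _ ((Scheme.ΓSpecIso (CommRingCat.of p.unop.B)).hom b).2]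
  show d.W.ι.appTop ((Scheme.ΓSpecIso (CommRingCat.of d.A)).inv _) = _
  refine congrArg d.W.ι.appTop ?_
  show _ = (Spec.map (CommRingCat.ofHom ((RingHom.snd (d.Γk p.unop.k) d.A).comp p.unop.B.val.toRingHom))).appTop b
  have := congr($(Scheme.ΓSpecIso_inv_naturality (CommRingCat.ofHom ((RingHom.snd (d.Γk p.unop.k) d.A).comp p.unop.B.val.toRingHom)))
    ((Scheme.ΓSpecIso (CommRingCat.of p.unop.B)).hom b))
  rw [CommRingCat.comp_apply, CommRingCat.comp_apply, Iso.hom_inv_id_apply] at this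
  exact this

theorem isConnected_Idx : IsConnected (d.Idx)ᵒᵖ :=
  have := d.isFiltered_Idx
  have : IsCofiltered (d.Idx)ᵒᵖ := isCofiltered_op_of_isFiltered _
  IsCofiltered.isConnected _

theorem lft_stage (a : d.Idx) :
    LocallyOfFiniteType (Limits.IsTerminal.from specULiftZIsTerminal (Spec (CommRingCat.of a.B))) := by
  let φ : CommRingCat.of (ULift.{u} ℤ) ⟶ CommRingCat.of a.B :=
    CommRingCat.ofHom ((Int.castRingHom a.B).comp ULift.ringEquiv.toRingHom)
  rw [specULiftZIsTerminal.hom_ext (Limits.IsTerminal.from specULiftZIsTerminal _) (Spec.map φ),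
    HasRingHomProperty.Spec_iff (P := @LocallyOfFiniteType)]
  refine RingHom.FiniteType.of_comp_finiteType (f := ULift.ringEquiv.symm.toRingHom) ?_
  have : Algebra.FiniteType ℤ a.B := a.B.fg_iff_finiteType.1 a.fg
  have e : φ.hom.comp ULift.ringEquiv.symm.toRingHom = algebraMap ℤ a.B := RingHom.ext_int _ _
  rw [e]
  exact RingHom.finiteType_algebraMap.2 this

/-- **The gluing step.** -/
theorem exists_glued :
    ∃ (J : Type u) (_ : Preorder J) (_ : IsDirected J (fun a b => a ≤ b)) (_ : Nonempty J) (T : Jᵒᵖ ⥤ Scheme.{u})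
      (π' : (Functor.const Jᵒᵖ).obj (pushout d.jU d.W.ι) ⟶ T) (_ : IsLimit (Cone.mk (pushout d.jU d.W.ι) π'))
      (F : J →o d.I) (e : F.monotone.functor.op ⋙ d.D ⟶ T),
      (∀ (i j : Jᵒᵖ) (f : i ⟶ j), IsAffineHom (T.map f)) ∧
      (∀ i, CompactSpace (T.obj i) ∧ LocallyOfFiniteType (Limits.IsTerminal.from specULiftZIsTerminal (T.obj i))) ∧
      (∀ p, IsOpenImmersion (e.app p)) ∧
      (∀ (p p' : Jᵒᵖ) (φ : p ⟶ p'), T.map φ ⁻¹' Set.range (e.app p') = Set.range (e.app p)) ∧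
      (∀ p, π'.app p ⁻¹' Set.range (e.app p) = Set.range (pushout.inl d.jU d.W.ι)) ∧
      (∀ p, pushout.inl d.jU d.W.ι ≫ π'.app p = d.π.app (op (F p.unop)) ≫ e.app p) := by
  classical
  have := d.isConnected_Idx
  have := d.directed_Idx
  have := d.nonempty_Idx
  have := d.initial_toI
  have := d.isFiltered_Idx
  haveI : IsOpenImmersion d.jU := d.open_jU
  let hlU : IsLimit d.cU := (Functor.Initial.isLimitWhiskerEquiv _ _).symm d.isLim
  let hlA : IsLimit d.cA := isLimitOfPreserves Scheme.Spec d.ringColimit.op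
  have ha : ∀ p, d.jU ≫ d.cU.π.app p = d.cJ.π.app p ≫ d.f.app p := fun p => (d.pW_ι _).symm
  have hb : ∀ p, d.W.ι ≫ d.cA.π.app p = d.cJ.π.app p ≫ d.g.app p := fun p => (d.pW_θ p).symm
  have : @IsOpenImmersion d.cJ.pt d.cU.pt d.jU := d.open_jU
  have : @IsOpenImmersion d.cJ.pt d.cA.pt d.W.ι := inferInstanceAs (IsOpenImmersion d.W.ι)
  let T := glue d.f d.g
  let c := glueCone d.f d.g d.cU d.cA d.cJ d.jU d.W.ι ha hb
  have hau : ∀ p, d.cU.π.app p ⁻¹' Set.range (d.f.app p) ⊆ Set.range d.jU := fun p x hx => by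
    have h : x ∈ d.π.app (op (d.toI p.unop)) ⁻¹ᵁ d.Wo (op (d.toI p.unop)) := by
      obtain ⟨y, hy⟩ := hx
      show d.π.app _ x ∈ d.Wo _
      exact hy ▸ y.2
    exact (d.preimage_π _).le h
  have hbv : ∀ p, d.cA.π.app p ⁻¹' Set.range (d.g.app p) ⊆ Set.range d.W.ι := fun p x hx => by
    have hx' : PrimeSpectrum.comap ((RingHom.snd (d.Γk p.unop.k) d.A).comp p.unop.B.val.toRingHom) x ∈
        d.WB p.unop.k p.unop.hk p.unop.B := p.unop.range_θ.le hx
    simp only [WB, Set.mem_iUnion] at hx'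
    obtain ⟨f, hf, hfB, hp⟩ := hx'
    rw [Scheme.Opens.range_ι]
    exact d.basicOpen_le hf hp
  have hlim : IsLimit c := isLimitGlueCone d.f d.g d.cU d.cA d.cJ d.jU d.W.ι ha hb d.hfpre d.hgpre hlU hlA hau hbv
  let e : d.DU ⟶ T :=
    { app := fun p => pushout.inl (d.f.app p) (d.g.app p)
      naturality := fun p q φ => (pushout.inl_desc _ _ _).symm }
  refine ⟨d.Idx, inferInstance, inferInstance, inferInstance, T, c.π, hlim, d.toI, e, fun p p' φ => ?_, fun p => ⟨?_, ?_⟩,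
    fun p => isOpenImmersion_inl _ _, fun p p' φ => ?_, fun p => ?_, fun p => ?_⟩
  · haveI : IsAffineHom (d.DU.map φ) := d.aff _ _ _
    haveI : IsAffineHom (d.DA.map φ) := inferInstanceAs (IsAffineHom (Spec.map _))
    exact isAffineHom_glue_map d.f d.g d.hfpre d.hgpre φ
  · haveI : CompactSpace (d.DU.obj p) := (d.ft _).1
    haveI : CompactSpace (d.DA.obj p) := inferInstanceAs (CompactSpace (Spec (CommRingCat.of p.unop.B)))
    refine ⟨?_⟩
    show IsCompact (Set.univ : Set (pushout (d.f.app p) (d.g.app p) : Scheme.{u}))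
    rw [← inl_range_sup_inr_range (d.f.app p) (d.g.app p)]
    exact (isCompact_range (pushout.inl _ _ : d.DU.obj p ⟶ _).continuous).union
      (isCompact_range (pushout.inr _ _ : d.DA.obj p ⟶ _).continuous)
  · refine IsZariskiLocalAtSource.of_openCover (P := @LocallyOfFiniteType) (cover (d.f.app p) (d.g.app p)) ?_
    rintro ⟨_ | _⟩
    · exact Eq.mp (congrArg (fun k => LocallyOfFiniteType k) (specULiftZIsTerminal.hom_ext _ _)) (d.lft_stage p.unop)
    · exact Eq.mp (congrArg (fun k => LocallyOfFiniteType k) (specULiftZIsTerminal.hom_ext _ _)) ((d.ft (op (d.toI p.unop))).2)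
  · refine subset_antisymm (fun x hx => ?_) ?_
    · exact range_inl_of_map_mem (d.f.app p) (d.g.app p) (d.f.app p') (d.g.app p') (d.DJ.map φ) (d.DU.map φ) (d.DA.map φ)
        (d.f.naturality φ).symm (d.g.naturality φ).symm (d.hgpre φ) x hx
    · rintro _ ⟨y, rfl⟩
      exact ⟨d.DU.map φ y, congr($(e.naturality φ) y)⟩
  · refine subset_antisymm (fun x hx => ?_) ?_
    · exact range_inl_of_map_mem d.jU d.W.ι (d.f.app p) (d.g.app p) (d.cJ.π.app p) (d.cU.π.app p) (d.cA.π.app p)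
        (ha p) (hb p) (hbv p) x hx
    · rintro _ ⟨y, rfl⟩
      exact ⟨d.cU.π.app p y, (congr($(inl_glueCone d.f d.g d.cU d.cA d.cJ d.jU d.W.ι ha hb p) y)).symm⟩
  · exact inl_glueCone d.f d.g d.cU d.cA d.cJ d.jU d.W.ι ha hb p

end Step

end Groth.Agent.RelApprox
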