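import Groth.Agent.RelApprox.Cover

/-!
The affine stages: finitely generated subrings of `Γ(W_k) ×_{Γ(W)} A` into whose spectrum the stage `W_k`
embeds as an open.
-/

set_option autoImplicit false
set_option backward.isDefEq.respectTransparency false
set_option maxHeartbeats 800000
universe u
open CategoryTheory CategoryTheory.Limits AlgebraicGeometry Opposite

namespace Groth.Agent.RelApprox

open AbsApprox

theorem mem_range_of_unit_mul {R S : Type u} [CommRing R] [CommRing S] (χ : R →+* S) {u v : R} {a w : S} {M : ℕ}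
    (hu : IsUnit u) (ha : χ u = a) (hv : χ v = a ^ M * w) : w ∈ χ.range := by
  obtain ⟨u, rfl⟩ := hu
  refine ⟨↑(u ^ M)⁻¹ * v, ?_⟩
  rw [map_mul, hv, ← ha, ← map_pow, ← mul_assoc, ← map_mul, ← Units.val_pow_eq_pow_val, Units.inv_mul, map_one, one_mul]

namespace Step

variable (d : Step.{u})

/-- a bottom stage over which the cover of the common open is visible -/
noncomputable def i₁ : d.I := (d.exists_affine_cover d.i₀).choose

/-- the sections of a stage -/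
abbrev Γk (k : d.I) : Type u := Γ((d.Wo (op k)).toScheme, ⊤)

/-- the equations of the cover at the bottom stage -/
noncomputable def g₁ : d.A → d.Γk d.i₁ := (d.exists_affine_cover d.i₀).choose_spec.choose

theorem g₁_spec : (∀ f ∈ d.s, d.ρ (op d.i₁) (d.g₁ f) = d.r f) ∧
      (⨆ f ∈ d.s, (d.Wo (op d.i₁)).toScheme.basicOpen (d.g₁ f)) = ⊤ ∧
      ∀ f ∈ d.s, IsAffineOpen ((d.Wo (op d.i₁)).toScheme.basicOpen (d.g₁ f)) :=
  (d.exists_affine_cover d.i₀).choose_spec.choose_spec.2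

/-- the transition maps of sections -/
noncomputable def res {k l : d.I} (h : k ≤ l) : d.Γk k →+* d.Γk l := (d.DW.map (homOfLE h).op).appTop.hom

theorem ρ_res {k l : d.I} (h : k ≤ l) (x : d.Γk k) : d.ρ (op l) (d.res h x) = d.ρ (op k) x := d.ρ_map _ _

theorem res_res {k l m : d.I} (h : k ≤ l) (h' : l ≤ m) (x : d.Γk k) : d.res h' (d.res h x) = d.res (h.trans h') x := by
  show _ = (d.DW.map (homOfLE (h.trans h')).op).appTop.hom x
  rw [show (homOfLE (h.trans h')).op = (homOfLE h').op ≫ (homOfLE h).op from Subsingleton.elim _ _, Functor.map_comp,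
    Scheme.Hom.comp_appTop]
  rfl

theorem res_self (k : d.I) (x : d.Γk k) : d.res (le_refl k) x = x := by
  show (d.DW.map (homOfLE (le_refl k)).op).appTop.hom x = x
  rw [show (homOfLE (le_refl k)).op = 𝟙 (op k) from Subsingleton.elim _ _, CategoryTheory.Functor.map_id,
    Scheme.Hom.id_appTop]
  rfl

/-- the equations of the cover -/
noncomputable def gk (k : d.I) (hk : d.i₁ ≤ k) (f : d.A) : d.Γk k := d.res hk (d.g₁ f)

theorem ρ_gk (k : d.I) (hk : d.i₁ ≤ k) {f : d.A} (hf : f ∈ d.s) : d.ρ (op k) (d.gk k hk f) = d.r f :=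
  (d.ρ_res hk _).trans (d.g₁_spec.1 f hf)

theorem res_gk {k l : d.I} (hk : d.i₁ ≤ k) (h : k ≤ l) (f : d.A) :
    d.res h (d.gk k hk f) = d.gk l (hk.trans h) f := d.res_res _ _ _

theorem preimage_gk (k : d.I) (hk : d.i₁ ≤ k) (f : d.A) :
    d.DW.map (homOfLE hk).op ⁻¹ᵁ (d.Wo (op d.i₁)).toScheme.basicOpen (d.g₁ f) =
      (d.Wo (op k)).toScheme.basicOpen (d.gk k hk f) :=
  Scheme.preimage_basicOpen_top _ _

theorem cover_gk (k : d.I) (hk : d.i₁ ≤ k) :
    (⨆ f ∈ d.s, (d.Wo (op k)).toScheme.basicOpen (d.gk k hk f)) = ⊤ := by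
  have h := congrArg (d.DW.map (homOfLE hk).op ⁻¹ᵁ ·) d.g₁_spec.2.1
  simp only [Scheme.Hom.preimage_iSup] at h
  refine Eq.trans ?_ h
  exact iSup_congr fun f => iSup_congr fun _ => (d.preimage_gk k hk f).symm

theorem affine_gk (k : d.I) (hk : d.i₁ ≤ k) {f : d.A} (hf : f ∈ d.s) :
    IsAffineOpen ((d.Wo (op k)).toScheme.basicOpen (d.gk k hk f)) :=
  d.preimage_gk k hk f ▸ (d.g₁_spec.2.2 f hf).preimage _

/-- the morphism to an affine stage -/
noncomputable def θB (k : d.I) (B : Subalgebra ℤ (d.Γk k × d.A)) :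
    (d.Wo (op k)).toScheme ⟶ Spec (CommRingCat.of B) :=
  (d.Wo (op k)).toScheme.toSpecΓ ≫
    Spec.map (CommRingCat.ofHom ((RingHom.fst (d.Γk k) d.A).comp B.val.toRingHom))

/-- the open of the affine stage -/
def WB (k : d.I) (hk : d.i₁ ≤ k) (B : Subalgebra ℤ (d.Γk k × d.A)) : Set (Spec (CommRingCat.of B)) :=
  ⋃ (f : d.A) (_ : f ∈ d.s) (h : (d.gk k hk f, f) ∈ B),
    (PrimeSpectrum.basicOpen (⟨(d.gk k hk f, f), h⟩ : B) : Set (PrimeSpectrum B))

/-- the affine stages -/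
structure Idx where
  k : d.I
  hk : d.i₁ ≤ k
  B : Subalgebra ℤ (d.Γk k × d.A)
  fg : B.FG
  compat : ∀ b ∈ B, d.ρ (op k) b.1 = d.r b.2
  mem : ∀ f ∈ d.s, (d.gk k hk f, f) ∈ B
  open_θ : IsOpenImmersion (d.θB k B)
  range_θ : Set.range (d.θB k B) = d.WB k hk B

/-- subrings of the fibre product -/
noncomputable def P (k : d.I) : Subalgebra ℤ (d.Γk k × d.A) :=
  subalgebraOfSubring (RingHom.eqLocus ((d.ρ (op k)).comp (RingHom.fst (d.Γk k) d.A)) (d.r.comp (RingHom.snd (d.Γk k) d.A)))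

theorem mem_P {k : d.I} {x : d.Γk k × d.A} : x ∈ d.P k ↔ d.ρ (op k) x.1 = d.r x.2 := Iff.rfl

/-- a subring of the fibre product with enough numerators gives an affine stage -/
theorem good_of (k : d.I) (hk : d.i₁ ≤ k) (B : Subalgebra ℤ (d.Γk k × d.A)) (hBP : B ≤ d.P k)
    (hsB : ∀ f ∈ d.s, (d.gk k hk f, f) ∈ B)
    (hgen : ∀ f ∈ d.s, ∃ E : Finset Γ((d.Wo (op k)).toScheme, (d.Wo (op k)).toScheme.basicOpen (d.gk k hk f)),
      Algebra.adjoin ℤ (E : Set Γ((d.Wo (op k)).toScheme, (d.Wo (op k)).toScheme.basicOpen (d.gk k hk f))) = ⊤ ∧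
      ∀ e ∈ E, ∃ (M : ℕ) (b : d.Γk k × d.A), b ∈ B ∧ b.1 |_ (d.Wo (op k)).toScheme.basicOpen (d.gk k hk f) =
        (d.gk k hk f |_ (d.Wo (op k)).toScheme.basicOpen (d.gk k hk f)) ^ M * e) :
    IsOpenImmersion (d.θB k B) ∧ Set.range (d.θB k B) = d.WB k hk B := by
  classical
  let T := (d.Wo (op k)).toScheme
  let g : d.A → Γ(T, ⊤) := d.gk k hk
  have haff : ∀ f ∈ d.s, IsAffineOpen (T.basicOpen (g f)) := fun f hf => d.affine_gk k hk hf
  have hg : ∀ f ∈ d.s, d.ρ (op k) (g f) = d.r f := fun f hf => d.ρ_gk k hk hf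
  let ψ : B →+* Γ(T, ⊤) := (RingHom.fst (d.Γk k) d.A).comp B.val.toRingHom
  let θ : T ⟶ Spec (CommRingCat.of B) := d.θB k B
  have hθ : θ.appTop = (Scheme.ΓSpecIso (CommRingCat.of B)).hom ≫ CommRingCat.ofHom ψ := by
    show ((d.Wo (op k)).toScheme.toSpecΓ ≫ Spec.map (CommRingCat.ofHom ψ)).appTop = _
    simp only [Scheme.Hom.comp_appTop, Scheme.toSpecΓ_appTop, Scheme.ΓSpecIso_naturality]
  let F : B → Γ(Spec (CommRingCat.of B), ⊤) := (Scheme.ΓSpecIso (CommRingCat.of B)).inv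
  have hθF : ∀ b, θ.appTop (F b) = ψ b := fun b => by
    rw [hθ]; exact congrArg ψ ((Scheme.ΓSpecIso (CommRingCat.of B)).inv_hom_id_apply b)
  let bb : ∀ f ∈ d.s, B := fun f hf => ⟨(g f, f), hsB f hf⟩
  have hfg : ∀ (f : d.A) (hf : f ∈ d.s), ψ (bb f hf) = g f := fun _ _ => rfl
  let U : {f // f ∈ d.s} → (Spec (CommRingCat.of B)).Opens := fun f =>
    (Spec (CommRingCat.of B)).basicOpen (F (bb f.1 f.2))
  have hU : ∀ f, (SetLike.coe (U f) : Set (PrimeSpectrum B)) = PrimeSpectrum.basicOpen (bb f.1 f.2) := fun f =>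
    congrArg (fun O : (Spec (CommRingCat.of B)).Opens => (SetLike.coe O : Set (PrimeSpectrum B)))
      (basicOpen_eq_of_affine (R := CommRingCat.of B) (bb f.1 f.2))
  have hpre : ∀ f : {f // f ∈ d.s}, θ ⁻¹ᵁ U f = T.basicOpen (g f.1) := fun f => by
    rw [Scheme.preimage_basicOpen_top, hθF, hfg f.1 f.2]
  have hsup : (⨆ f, θ ⁻¹ᵁ U f) = ⊤ := by
    simp only [hpre]
    exact (iSup_subtype (f := fun f : {f // f ∈ d.s} => T.basicOpen (g f.1))).trans (d.cover_gk k hk)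
  have hbij : ∀ f : {f // f ∈ d.s}, Function.Bijective (θ.app (U f)) := by
    rintro ⟨f, hf⟩
    let := ((isAffineOpen_top (Spec (CommRingCat.of B))).isLocalization_basicOpen (F (bb f hf)))
    let φ := (θ.app (U ⟨f, hf⟩)).hom
    have hmapT : ∀ b : B, φ ((F b) |_ U ⟨f, hf⟩) = (ψ b) |_ (θ ⁻¹ᵁ U ⟨f, hf⟩) := fun b => by
      rw [← hθF b]
      simp only [TopCat.Presheaf.restrictOpenCommRingCat_apply, φ, ← ConcreteCategory.comp_apply]
      exact congr($(θ.naturality (homOfLE le_top).op) (F b))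
    let e := (T.presheaf.map (eqToHom (hpre ⟨f, hf⟩).symm).op).hom
    have he : ∀ t : Γ(T, ⊤), e (t |_ (θ ⁻¹ᵁ U ⟨f, hf⟩)) = t |_ T.basicOpen (g f) := fun t => by
      simp only [TopCat.Presheaf.restrictOpenCommRingCat_apply, e, ← ConcreteCategory.comp_apply, ← Functor.map_comp]
      rfl
    have hinj : Function.Injective e := ((asIso (T.presheaf.map (eqToHom (hpre ⟨f, hf⟩).symm).op)).commRingCatIsoToRingEquiv).injective
    have hu : IsUnit ((F (bb f hf)) |_ U ⟨f, hf⟩) :=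
      IsLocalization.map_units Γ(Spec (CommRingCat.of B), U ⟨f, hf⟩)
        (⟨F (bb f hf), 1, pow_one _⟩ : Submonoid.powers (F (bb f hf)))
    refine ⟨(injective_iff_map_eq_zero φ).2 fun x hx => ?_, fun x => ?_⟩
    · obtain ⟨⟨b', ⟨_, n, rfl⟩⟩, hb⟩ := IsLocalization.surj (Submonoid.powers (F (bb f hf))) x
      obtain ⟨b, rfl⟩ : ∃ b, F b = b' :=
        (Scheme.ΓSpecIso (CommRingCat.of B)).symm.commRingCatIsoToRingEquiv.surjective b'
      have hb0 : φ ((F b) |_ U ⟨f, hf⟩) = 0 := by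
        refine (congrArg φ hb.symm).trans ?_
        rw [map_mul, hx, zero_mul]
      rw [hmapT] at hb0
      obtain ⟨m, hm⟩ := exists_pow_mul_eq_zero_of_res_basicOpen_eq_zero_of_isCompact T (U := ⊤) isCompact_univ (ψ b) (g f)
        (by rw [← he, hb0, map_zero])
      have hm' : g f ^ m * b.1.1 = 0 := hm
      have h0 : d.r (f ^ m * b.1.2) = 0 := by
        rw [map_mul, map_pow, ← hg f hf, ← d.mem_P.1 (hBP b.2), ← map_pow, ← map_mul, hm', map_zero]
      obtain ⟨N, hN⟩ := d.exists_pow_mul_eq_zero hf h0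
      have h1 : (bb f hf) ^ (N + m) * b = 0 := by
        refine Subtype.ext (Prod.ext ?_ ?_)
        · show g f ^ (N + m) * b.1.1 = 0
          rw [pow_add, mul_assoc, hm', mul_zero]
        · show f ^ (N + m) * b.1.2 = 0
          rw [pow_add, mul_assoc, hN]
      have h2 : ((F (bb f hf)) |_ U ⟨f, hf⟩) ^ (N + m) * ((F b) |_ U ⟨f, hf⟩) = 0 := by
        simp only [TopCat.Presheaf.restrictOpenCommRingCat_apply, ← map_pow, ← map_mul]
        simp only [F, ← map_pow, ← map_mul, h1, map_zero]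
      rw [(hu.pow _).mul_right_eq_zero] at h2
      have h3 : x * ((F (bb f hf)) |_ U ⟨f, hf⟩) ^ n = 0 := by
        refine Eq.trans ?_ (hb.trans h2)
        simp only [TopCat.Presheaf.restrictOpenCommRingCat_apply, map_pow]
        rfl
      exact (hu.pow n).mul_left_eq_zero.1 h3
    · have hrange : (subalgebraOfSubring (e.comp φ).range : Subalgebra ℤ Γ(T, T.basicOpen (g f))) = ⊤ := by
        obtain ⟨E, hE, hE'⟩ := hgen f hf
        rw [eq_top_iff, ← hE]
        refine Algebra.adjoin_le fun w hw => ?_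
        obtain ⟨M, ⟨z, y⟩, hzB, hz⟩ := hE' w hw
        have h0 : e (φ ((F ⟨(z, y), hzB⟩) |_ U ⟨f, hf⟩)) = z |_ T.basicOpen (g f) :=
          (congrArg e (hmapT ⟨(z, y), hzB⟩)).trans (he z)
        have h1 : e (φ ((F ⟨(z, y), hzB⟩) |_ U ⟨f, hf⟩)) = (g f |_ T.basicOpen (g f)) ^ M * w :=
          h0.trans hz
        have h2 : e (φ ((F (bb f hf)) |_ U ⟨f, hf⟩)) = g f |_ T.basicOpen (g f) :=
          (congrArg e (hmapT (bb f hf))).trans (he (g f))
        exact mem_range_of_unit_mul (e.comp φ) hu h2 h1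
      obtain ⟨v, hv⟩ : e x ∈ subalgebraOfSubring (e.comp φ).range := hrange ▸ Algebra.mem_top
      exact ⟨v, hinj hv⟩
  have hiso : ∀ f, IsIso (θ ∣_ U f) := fun f =>
    isIso_restrict θ ((isAffineOpen_top _).basicOpen _) (hpre f ▸ haff f.1 f.2) (hbij f)
  refine ⟨?_, ?_⟩
  · have : MorphismProperty.RespectsRight (@IsOpenImmersion : MorphismProperty Scheme.{u}) @IsOpenImmersion :=
      ⟨fun g (_ : IsOpenImmersion g) f (_ : IsOpenImmersion f) => inferInstanceAs (IsOpenImmersion (f ≫ g))⟩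
    refine IsZariskiLocalAtTarget.of_range_subset_iSup (P := @IsOpenImmersion) U ?_ fun f => ?_
    · rintro _ ⟨x, rfl⟩
      obtain ⟨f, hfx⟩ := TopologicalSpace.Opens.mem_iSup.1 (hsup.ge (show x ∈ (⊤ : T.Opens) from trivial))
      exact TopologicalSpace.Opens.mem_iSup.2 ⟨f, hfx⟩
    · have := hiso f
      infer_instance
  · have h1 : d.WB k hk B = ⋃ f, (SetLike.coe (U f) : Set (PrimeSpectrum B)) := by
      simp only [hU]
      ext p
      simp only [WB, Set.mem_iUnion]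
      exact ⟨fun ⟨f, hf, h, hp⟩ => ⟨⟨f, hf⟩, hp⟩, fun ⟨⟨f, hf⟩, hp⟩ => ⟨f, hf, hsB f hf, hp⟩⟩
    rw [h1]
    refine subset_antisymm ?_ ?_
    · rintro _ ⟨x, rfl⟩
      obtain ⟨f, hfx⟩ := TopologicalSpace.Opens.mem_iSup.1 (hsup.ge (show x ∈ (⊤ : T.Opens) from trivial))
      exact Set.mem_iUnion.2 ⟨f, hfx⟩
    · intro p hp
      obtain ⟨f, hf⟩ := Set.mem_iUnion.1 hp
      have := hiso f
      obtain ⟨x, hx⟩ := (asIso (θ ∣_ U f)).hom.homeomorph.surjective ⟨p, hf⟩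
      refine ⟨(θ ⁻¹ᵁ U f).ι x, ?_⟩
      show θ ((θ ⁻¹ᵁ U f).ι x) = p
      rw [← Scheme.Hom.comp_apply, ← morphismRestrict_ι, Scheme.Hom.comp_apply]
      exact congrArg (U f).ι hx


/-- **The affine stages are cofinal.** -/
theorem exists_idx (k : d.I) (hk : d.i₁ ≤ k) (G : Finset (d.Γk k × d.A)) (hG : ∀ x ∈ G, d.ρ (op k) x.1 = d.r x.2) :
    ∃ B : Subalgebra ℤ (d.Γk k × d.A), B.FG ∧ (∀ b ∈ B, d.ρ (op k) b.1 = d.r b.2) ∧
      (∀ f ∈ d.s, (d.gk k hk f, f) ∈ B) ∧ IsOpenImmersion (d.θB k B) ∧ Set.range (d.θB k B) = d.WB k hk B ∧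
      ∀ x ∈ G, x ∈ B := by
  classical
  let T := (d.Wo (op k)).toScheme
  let g : d.A → Γ(T, ⊤) := d.gk k hk
  have haff : ∀ f ∈ d.s, IsAffineOpen (T.basicOpen (g f)) := fun f hf => d.affine_gk k hk hf
  have hg : ∀ f ∈ d.s, d.ρ (op k) (g f) = d.r f := fun f hf => d.ρ_gk k hk hf
  -- numerators of generators
  have hlft : LocallyOfFiniteType (Limits.IsTerminal.from specULiftZIsTerminal T) := by
    have h1 : LocallyOfFiniteType (Limits.IsTerminal.from specULiftZIsTerminal (d.D.obj (op k))) := (d.ft (op k)).2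
    rw [specULiftZIsTerminal.hom_ext (Limits.IsTerminal.from specULiftZIsTerminal T)
      ((d.Wo (op k)).ι ≫ Limits.IsTerminal.from specULiftZIsTerminal (d.D.obj (op k)))]
    infer_instance
  have hgen : ∀ f ∈ d.s, ∃ E : Finset Γ(T, T.basicOpen (g f)), Algebra.adjoin ℤ (E : Set Γ(T, T.basicOpen (g f))) = ⊤ :=
    fun f hf => (finiteType_sections hlft (haff f hf)).out
  choose E hE using hgen
  have hnum : ∀ (f : d.A) (hf : f ∈ d.s) (x : Γ(T, T.basicOpen (g f))), ∃ (M : ℕ) (z : Γ(T, ⊤)) (y : d.A),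
      d.ρ (op k) z = d.r y ∧ z |_ T.basicOpen (g f) = (g f |_ T.basicOpen (g f)) ^ M * x := by
    intro f hf x
    obtain ⟨n, z, hz⟩ := exists_eq_pow_mul_of_isCompact_of_isQuasiSeparated T ⊤ isCompact_univ
      (isQuasiSeparated_univ_iff.mpr (inferInstanceAs (QuasiSeparatedSpace (d.DW.obj (op k))))) (g f) x
    obtain ⟨N, a, ha⟩ := d.exists_r_eq hf (d.ρ (op k) z)
    refine ⟨N + n, g f ^ N * z, a, ?_, ?_⟩
    · rw [ha, map_mul, map_pow, hg f hf]
    · simp only [TopCat.Presheaf.restrictOpenCommRingCat_apply, map_mul, map_pow] at hz ⊢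
      rw [hz, pow_add, mul_assoc]
  choose M z y hy hz using hnum
  let ys : Finset (d.Γk k × d.A) := d.s.attach.biUnion fun f => (E f.1 f.2).image fun e => (z f.1 f.2 e, y f.1 f.2 e)
  let gs : Finset (d.Γk k × d.A) := d.s.image fun f => (g f, f)
  let B : Subalgebra ℤ (d.Γk k × d.A) := Algebra.adjoin ℤ (↑(G ∪ gs ∪ ys) : Set (d.Γk k × d.A))
  have hBP : B ≤ d.P k := Algebra.adjoin_le fun x hx => by
    rcases Finset.mem_union.1 hx with hx | hx
    · rcases Finset.mem_union.1 hx with hx | hx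
      · exact hG x hx
      · obtain ⟨f, hf, rfl⟩ := Finset.mem_image.1 hx
        exact hg f hf
    · obtain ⟨⟨f, hf⟩, -, hx⟩ := Finset.mem_biUnion.1 hx
      obtain ⟨e, -, rfl⟩ := Finset.mem_image.1 hx
      exact hy f hf e
  have hsB : ∀ f ∈ d.s, (g f, f) ∈ B := fun f hf =>
    Algebra.subset_adjoin (Finset.mem_union_left _ (Finset.mem_union_right _ (Finset.mem_image.2 ⟨f, hf, rfl⟩)))
  have hyB : ∀ (f : d.A) (hf : f ∈ d.s), ∀ e ∈ E f hf, (z f hf e, y f hf e) ∈ B := fun f hf e he =>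
    Algebra.subset_adjoin (Finset.mem_union_right _ (Finset.mem_biUnion.2
      ⟨⟨f, hf⟩, Finset.mem_attach _ _, Finset.mem_image.2 ⟨e, he, rfl⟩⟩))
  obtain ⟨h1, h2⟩ := d.good_of k hk B hBP hsB (fun f hf => ⟨E f hf, hE f hf, fun e he =>
    ⟨M f hf e, (z f hf e, y f hf e), hyB f hf e he, hz f hf e⟩⟩)
  exact ⟨B, Subalgebra.fg_adjoin_finset _, fun b hb => hBP hb, hsB, h1, h2,
    fun x hx => Algebra.subset_adjoin (Finset.mem_union_left _ (Finset.mem_union_left _ hx))⟩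

end Step

end Groth.Agent.RelApprox
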