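import Groth.Agent.RelApprox.Glue

/-!
Relative noetherian approximation: an approximation of a quasi-compact open extends to the whole scheme.
-/

set_option autoImplicit false
set_option backward.isDefEq.respectTransparency false
set_option linter.style.haveILetI false
set_option maxHeartbeats 800000
universe u
open CategoryTheory CategoryTheory.Limits AlgebraicGeometry Opposite

open Groth.Agent.LimModel (isOpenImmersion_inl)

namespace Groth.Agent.RelApprox

open AbsApprox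

variable {I : Type u} [Preorder I] (DV : Iᵒᵖ ⥤ Scheme.{u}) {V : Scheme.{u}} (πV : (Functor.const Iᵒᵖ).obj V ⟶ DV)

/-- `X` has an approximation extending the given approximation of its open `V` -/
def Rel {X : Scheme.{u}} (j : V ⟶ X) : Prop :=
  ∃ (J : Type u) (_ : Preorder J) (_ : IsDirected J (fun a b => a ≤ b)) (_ : Nonempty J) (DS : Jᵒᵖ ⥤ Scheme.{u})
    (π : (Functor.const Jᵒᵖ).obj X ⟶ DS) (_ : IsLimit (Cone.mk X π)) (α : J →o I)
    (e : α.monotone.functor.op ⋙ DV ⟶ DS),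
    (∀ (i j : Jᵒᵖ) (f : i ⟶ j), IsAffineHom (DS.map f)) ∧
    (∀ i, CompactSpace (DS.obj i) ∧ LocallyOfFiniteType (Limits.IsTerminal.from specULiftZIsTerminal (DS.obj i))) ∧
    (∀ p, IsOpenImmersion (e.app p)) ∧
    (∀ (p p' : Jᵒᵖ) (φ : p ⟶ p'), DS.map φ ⁻¹' Set.range (e.app p') = Set.range (e.app p)) ∧
    (∀ p, π.app p ⁻¹' Set.range (e.app p) = Set.range j) ∧
    (∀ p, j ≫ π.app p = πV.app (op (α p.unop)) ≫ e.app p)

theorem rel_base [IsDirected I (fun a b => a ≤ b)] [Nonempty I] (hV : IsLimit (Cone.mk V πV))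
    (haff : ∀ (i j : Iᵒᵖ) (f : i ⟶ j), IsAffineHom (DV.map f))
    (hft : ∀ i, CompactSpace (DV.obj i) ∧ LocallyOfFiniteType (Limits.IsTerminal.from specULiftZIsTerminal (DV.obj i))) :
    Rel DV πV (𝟙 V) := by
  let α : I →o I := OrderHom.id
  let e : α.monotone.functor.op ⋙ DV ⟶ DV :=
    { app := fun p => 𝟙 (DV.obj p)
      naturality := fun p q f => by
        show DV.map _ ≫ 𝟙 _ = 𝟙 _ ≫ DV.map _
        rw [Category.comp_id, Category.id_comp] }
  refine ⟨I, inferInstance, inferInstance, inferInstance, DV, πV, hV, α, e, haff, hft,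
    fun p => inferInstanceAs (IsOpenImmersion (𝟙 _)), fun p p' φ => ?_, fun p => ?_, fun p => ?_⟩
  · ext x
    exact iff_of_true ⟨_, rfl⟩ ⟨x, rfl⟩
  · ext x
    exact iff_of_true ⟨_, rfl⟩ ⟨x, rfl⟩
  · exact (Category.id_comp _).trans (Category.comp_id _).symm

theorem rel_of_iso {X Y : Scheme.{u}} {j : V ⟶ X} (φ : X ≅ Y) {j' : V ⟶ Y} (hj : j ≫ φ.hom = j')
    (h : Rel DV πV j) : Rel DV πV j' := by
  obtain ⟨J, _, _, _, DS, π, hl, α, e, h1, h2, h3, h4, h5, h6⟩ := h
  refine ⟨J, inferInstance, inferInstance, inferInstance, DS, (Functor.const Jᵒᵖ).map φ.inv ≫ π,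
    hl.ofIsoLimit (Cone.ext φ (by intro k; simp)), α, e, h1, h2, h3, h4, fun p => ?_, fun p => ?_⟩
  · ext x
    show π.app p (φ.inv x) ∈ Set.range (e.app p) ↔ x ∈ Set.range j'
    rw [← Set.mem_preimage, h5 p, ← hj]
    constructor
    · rintro ⟨v, hv⟩
      refine ⟨v, ?_⟩
      rw [Scheme.Hom.comp_apply, hv, ← Scheme.Hom.comp_apply, φ.inv_hom_id]
      rfl
    · rintro ⟨v, rfl⟩
      refine ⟨v, ?_⟩
      rw [Scheme.Hom.comp_apply, ← Scheme.Hom.comp_apply φ.hom φ.inv, φ.hom_inv_id]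
      rfl
  · show j' ≫ φ.inv ≫ π.app p = _
    rw [← hj, Category.assoc, φ.hom_inv_id_assoc, h6 p]

theorem rel_step {X : Scheme.{u}} (U W' : X.Opens) (hW' : IsAffineOpen W') (h : U ⊔ W' = ⊤)
    (hUW : IsCompact ((U ⊓ W' : X.Opens) : Set X)) {jV : V ⟶ U.toScheme} (hU : Rel DV πV jV) :
    Rel DV πV (jV ≫ U.ι) := by
  classical
  obtain ⟨J, _, _, _, D, π, hl, α, eU, h1, h2, h3, h4, h5, h6⟩ := hU
  let A : Type u := Γ(X, W')
  let iV : Spec (CommRingCat.of A) ⟶ X := hW'.fromSpec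
  haveI : IsOpenImmersion iV := inferInstanceAs (IsOpenImmersion hW'.fromSpec)
  have hiV : iV.opensRange = W' := hW'.opensRange_fromSpec
  let W : (Spec (CommRingCat.of A)).Opens := iV ⁻¹ᵁ U
  let jU : W.toScheme ⟶ U.toScheme := iV.resLE U W le_rfl
  have w : jU ≫ U.ι = W.ι ≫ iV := Scheme.Hom.resLE_comp_ι _ _
  haveI : IsOpenImmersion (jU ≫ U.ι) := by rw [w]; infer_instance
  haveI : IsOpenImmersion jU := IsOpenImmersion.of_comp jU U.ι
  have hWc : IsCompact (SetLike.coe W : Set (Spec (CommRingCat.of A))) := by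
    refine iV.isOpenEmbedding.isInducing.isCompact_iff.2 ?_
    have : iV '' SetLike.coe W = ((U ⊓ W' : X.Opens) : Set X) := by
      rw [show SetLike.coe W = iV ⁻¹' (U : Set X) from rfl, Set.image_preimage_eq_inter_range]
      exact congrArg (fun S => (U : Set X) ∩ S) (congrArg SetLike.coe hiV)
    exact this ▸ hUW
  obtain ⟨s, hs⟩ := exists_finset_eq_iSup W hWc
  haveI : CompactSpace W.toScheme := isCompact_iff_compactSpace.mp hWc
  haveI : IsCofiltered Jᵒᵖ := isCofiltered_op_of_isFiltered _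
  haveI : ∀ {i j : Jᵒᵖ} (f : i ⟶ j), IsAffineHom (D.map f) := fun f => h1 _ _ f
  obtain ⟨⟨i₀⟩, W₀, hW₀, hW₀'⟩ := exists_preimage_eq D (Cone.mk U.toScheme π) hl jU.opensRange (by
    exact isCompact_range jU.continuous)
  -- restrict to the indices above `i₀`
  let J' : Type u := {i : J // i₀ ≤ i}
  haveI : Nonempty J' := ⟨⟨i₀, le_rfl⟩⟩
  haveI : IsDirected J' (fun a b => a ≤ b) := ⟨fun a b => by
    obtain ⟨c, hc, hc'⟩ := exists_ge_ge a.1 b.1
    exact ⟨⟨c, a.2.trans hc⟩, hc, hc'⟩⟩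
  let F : J' →o J := ⟨Subtype.val, fun _ _ h => h⟩
  haveI : F.monotone.functor.op.Initial := final_of_cofinal F fun i => by
    obtain ⟨c, hc, hc'⟩ := exists_ge_ge i i₀
    exact ⟨⟨c, hc'⟩, hc⟩
  let d : Step.{u} :=
    { I := J'
      D := F.monotone.functor.op ⋙ D
      U := U.toScheme
      π := Functor.whiskerLeft F.monotone.functor.op π
      isLim := (Functor.Initial.isLimitWhiskerEquiv F.monotone.functor.op (Cone.mk U.toScheme π)).symm hl
      aff := fun _ _ _ => h1 _ _ _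
      ft := fun _ => h2 _
      i₀ := ⟨i₀, le_rfl⟩
      le := fun i => i.2
      W₀ := W₀
      compactW₀ := hW₀
      A := A
      W := W
      s := s
      hs := hs
      jU := jU
      preimage := congrArg (fun O : U.toScheme.Opens => (O : Set U.toScheme)) hW₀' }
  obtain ⟨K, _, _, _, T, π', hl', G, e, k1, k2, k3, k4, k5, k6⟩ := d.exists_glued
  haveI := isIso_desc iV (by rw [hiV]; exact h) jU w
  let m := asIso (pushout.desc U.ι iV w)
  let β : K →o I := α.comp (F.comp G)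
  let e' : β.monotone.functor.op ⋙ DV ⟶ T :=
    { app := fun p => eU.app (op (G p.unop).1) ≫ e.app p
      naturality := fun p q φ => by
        have n1 := eU.naturality (F.monotone.functor.op.map (G.monotone.functor.op.map φ))
        have n2 := e.naturality φ
        show DV.map _ ≫ eU.app _ ≫ e.app q = (eU.app _ ≫ e.app p) ≫ T.map φ
        rw [Category.assoc, ← n2, ← Category.assoc, ← Category.assoc]
        refine congrArg (· ≫ e.app q) (Eq.trans ?_ n1)
        exact congrArg (fun t => DV.map t ≫ _) (Subsingleton.elim _ _) }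
  have hcomp : ∀ p : Kᵒᵖ, (jV ≫ pushout.inl d.jU d.W.ι) ≫ π'.app p = πV.app (op (β p.unop)) ≫ e'.app p := fun p =>
    (Category.assoc _ _ _).trans ((congrArg (jV ≫ ·) (k6 p)).trans ((Category.assoc _ _ _).symm.trans
      ((congrArg (· ≫ e.app p) (h6 (op (G p.unop).1))).trans (Category.assoc _ _ _))))
  refine rel_of_iso DV πV m (j := jV ≫ pushout.inl jU W.ι) ?_ ⟨K, inferInstance, inferInstance, inferInstance, T, π', hl', β, e',
    k1, k2, fun p => ?_, fun p p' φ => ?_, fun p => ?_, fun p => ?_⟩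
  · show (jV ≫ pushout.inl jU W.ι) ≫ pushout.desc U.ι iV w = _
    rw [Category.assoc, pushout.inl_desc]
  · haveI := h3 (op (G p.unop).1)
    haveI := k3 p
    exact inferInstanceAs (IsOpenImmersion (eU.app (op (G p.unop).1) ≫ e.app p))
  · haveI := k3 p'
    refine subset_antisymm (fun x hx => ?_) ?_
    · obtain ⟨v, hv⟩ := hx
      have hx' : x ∈ Set.range (e.app p) := by
        rw [← k4 p p' φ]
        exact ⟨eU.app (op (G p'.unop).1) v, hv⟩
      obtain ⟨y, rfl⟩ := hx'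
      have he : e.app p' ((d.D.map (G.monotone.functor.op.map φ)) y) = T.map φ (e.app p y) :=
        congr($(e.naturality φ) y)
      have hy : (d.D.map (G.monotone.functor.op.map φ)) y ∈ Set.range (eU.app (op (G p'.unop).1)) :=
        ⟨v, (e.app p').isOpenEmbedding.injective (hv.trans he.symm)⟩
      have hy' : y ∈ Set.range (eU.app (op (G p.unop).1)) :=
        (h4 _ _ (F.monotone.functor.op.map (G.monotone.functor.op.map φ))).le hy
      obtain ⟨u, rfl⟩ := hy'
      exact ⟨u, rfl⟩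
    · rintro _ ⟨v, rfl⟩
      exact ⟨_, congr($(e'.naturality φ) v)⟩
  · haveI := k3 p
    refine subset_antisymm (fun x hx => ?_) ?_
    · obtain ⟨v, hv⟩ := hx
      have hx' : x ∈ Set.range (pushout.inl d.jU d.W.ι) := by
        rw [← k5 p]
        exact ⟨eU.app (op (G p.unop).1) v, hv⟩
      obtain ⟨y, rfl⟩ := hx'
      have he : e.app p (d.π.app (op (G p.unop)) y) = π'.app p (pushout.inl d.jU d.W.ι y) :=
        congr($((k6 p).symm) y)
      have hy : π.app (op (G p.unop).1) y ∈ Set.range (eU.app (op (G p.unop).1)) :=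
        ⟨v, (e.app p).isOpenEmbedding.injective (hv.trans he.symm)⟩
      obtain ⟨u, rfl⟩ : y ∈ Set.range jV := (h5 _).le hy
      exact ⟨u, rfl⟩
    · rintro _ ⟨v, rfl⟩
      refine ⟨πV.app (op (α (G p.unop).1)) v, ?_⟩
      show (πV.app _ ≫ eU.app (op (G p.unop).1) ≫ e.app p) v = ((jV ≫ pushout.inl d.jU d.W.ι) ≫ π'.app p) v
      exact congr($((hcomp p).symm) v)
  · exact hcomp p

/-- **Relative noetherian approximation.** -/
theorem exists_rel [IsDirected I (fun a b => a ≤ b)] [Nonempty I] {X : Scheme.{u}} [CompactSpace X] [QuasiSeparatedSpace X]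
    (O₀ : X.Opens) (hO₀ : IsCompact (O₀ : Set X)) (φ : V ≅ O₀.toScheme) (hV : IsLimit (Cone.mk V πV))
    (haff : ∀ (i j : Iᵒᵖ) (f : i ⟶ j), IsAffineHom (DV.map f))
    (hft : ∀ i, CompactSpace (DV.obj i) ∧ LocallyOfFiniteType (Limits.IsTerminal.from specULiftZIsTerminal (DV.obj i))) :
    Rel DV πV (φ.hom ≫ O₀.ι) := by
  classical
  obtain ⟨t, ht⟩ := isCompact_univ.elim_finite_subcover (fun W : X.affineOpens => ((W : X.Opens) : Set X))
    (fun W => (W : X.Opens).2) (fun y _ => by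
      obtain ⟨_, ⟨W, hW, rfl⟩, hyW, -⟩ := X.isBasis_affineOpens.exists_subset_of_mem_open (Set.mem_univ y) isOpen_univ
      exact Set.mem_iUnion.2 ⟨⟨W, hW⟩, hyW⟩)
  let O : Finset X.affineOpens → X.Opens := fun s => O₀ ⊔ s.sup (fun W : X.affineOpens => (W : X.Opens))
  have key : ∀ s : Finset X.affineOpens, IsCompact (SetLike.coe (O s)) ∧
      ∃ j : V ⟶ (O s).toScheme, j ≫ (O s).ι = φ.hom ≫ O₀.ι ∧ Rel DV πV j := by
    intro s
    induction s using Finset.induction with
    | empty =>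
      have e : O₀ = O ∅ := by simp [O]
      refine ⟨e ▸ hO₀, φ.hom ≫ (X.isoOfEq e).hom, ?_, ?_⟩
      · rw [Category.assoc, Scheme.isoOfEq_hom_ι]
      · exact rel_of_iso DV πV (φ ≪≫ X.isoOfEq e) (Category.id_comp _) (rel_base DV πV hV haff hft)
    | insert W s _ ih =>
      have e : O (insert W s) = (W : X.Opens) ⊔ O s := by
        simp only [O, Finset.sup_insert]
        rw [sup_left_comm]
      rw [e]
      obtain ⟨hc, j, hj, hm⟩ := ih
      refine ⟨by rw [TopologicalSpace.Opens.coe_sup]; exact W.2.isCompact.union hc, ?_⟩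
      let T : X.Opens := (W : X.Opens) ⊔ O s
      let i : (T.ι ⁻¹ᵁ O s).toScheme ≅ (O s).toScheme :=
        (T.ι.isoImage _) ≪≫ X.isoOfEq ((T.functor_map_eq_inf _).trans (inf_eq_left.mpr le_sup_right))
      have hi : i.hom ≫ (O s).ι = (T.ι ⁻¹ᵁ O s).ι ≫ T.ι := by simp [i]
      refine ⟨(j ≫ i.inv) ≫ (T.ι ⁻¹ᵁ O s).ι, ?_, ?_⟩
      · show (_ ≫ _) ≫ T.ι = _
        rw [Category.assoc, ← hi, Category.assoc, i.inv_hom_id_assoc, hj]
      refine rel_step DV πV (T.ι ⁻¹ᵁ O s) (T.ι ⁻¹ᵁ (W : X.Opens)) ?_ ?_ ?_ (rel_of_iso DV πV i.symm rfl hm)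
      · exact W.2.preimage_of_isOpenImmersion T.ι (by rw [Scheme.Opens.opensRange_ι]; exact le_sup_left)
      · rw [← Scheme.Hom.preimage_sup, sup_comm]; exact T.ι_preimage_self
      · rw [← Scheme.Hom.preimage_inf]
        show IsCompact (T.ι ⁻¹' (SetLike.coe (O s) ∩ SetLike.coe (W : X.Opens)))
        refine T.ι.isOpenEmbedding.isInducing.isCompact_preimage' ?_ ?_
        · exact QuasiSeparatedSpace.inter_isCompact _ _ (O s).2 hc (W : X.Opens).2 W.2.isCompact
        · rw [Scheme.Opens.range_ι]; exact fun y hy => Or.inl hy.2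
  have htop : O t = ⊤ := top_le_iff.mp fun y _ => by
    obtain ⟨W, hW, hyW⟩ := Set.mem_iUnion₂.1 (ht (Set.mem_univ y))
    exact (le_sup_right : _ ≤ O t) (Finset.le_sup (f := fun W : X.affineOpens => (W : X.Opens)) hW hyW)
  obtain ⟨-, h⟩ := key t
  rw [htop] at h
  obtain ⟨j, hj, hm⟩ := h
  exact rel_of_iso DV πV X.topIso (by rw [← hj]; simp) hm

end Groth.Agent.RelApprox
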