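import Groth.Agent.AbsApprox.Main

/-!
Data of one gluing step of relative approximation: as `AbsApprox.StepData`, but the projections of the
given system need not be schematically dominant.
-/

set_option autoImplicit false
set_option backward.isDefEq.respectTransparency false
universe u
open CategoryTheory CategoryTheory.Limits AlgebraicGeometry Opposite

namespace Groth.Agent.RelApprox

open AbsApprox

/-- the data of a gluing step -/
structure Step where
  {I : Type u}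
  [pre : Preorder I]
  [dir : IsDirected I (fun a b => a ≤ b)]
  [ne : Nonempty I]
  D : Iᵒᵖ ⥤ Scheme.{u}
  {U : Scheme.{u}}
  π : (Functor.const Iᵒᵖ).obj U ⟶ D
  isLim : IsLimit (Cone.mk U π)
  aff : ∀ (i j : Iᵒᵖ) (f : i ⟶ j), IsAffineHom (D.map f)
  ft : ∀ i, CompactSpace (D.obj i) ∧ LocallyOfFiniteType (Limits.IsTerminal.from specULiftZIsTerminal (D.obj i))
  i₀ : I
  le : ∀ i, i₀ ≤ i
  W₀ : (D.obj (op i₀)).Opens
  compactW₀ : IsCompact (W₀ : Set (D.obj (op i₀)))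
  {A : Type u}
  [ring : CommRing A]
  W : (Spec (CommRingCat.of A)).Opens
  s : Finset A
  hs : W = ⨆ f ∈ s, PrimeSpectrum.basicOpen f
  jU : W.toScheme ⟶ U
  [open_jU : IsOpenImmersion jU]
  preimage : (π.app (op i₀)) ⁻¹' (W₀ : Set (D.obj (op i₀))) = Set.range jU

namespace Step

attribute [instance] pre dir ne ring open_jU

variable (d : Step.{u})

/-- the arrow to the bottom stage -/
def bot (i : d.Iᵒᵖ) : i ⟶ op d.i₀ := (homOfLE (d.le i.unop)).op

instance (i : d.Iᵒᵖ) : CompactSpace (d.D.obj i) := (d.ft i).1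
instance (i : d.Iᵒᵖ) : IsLocallyNoetherian (d.D.obj i) := isLocallyNoetherian_of_lft (d.ft i).2
instance {i j : d.Iᵒᵖ} (f : i ⟶ j) : IsAffineHom (d.D.map f) := d.aff i j f

instance (i : d.Iᵒᵖ) : IsAffineHom (d.π.app i) :=
  isAffineHom_π_app d.D (Cone.mk d.U d.π) d.isLim i

/-- the stages of the common open -/
def Wo (i : d.Iᵒᵖ) : (d.D.obj i).Opens := d.D.map (d.bot i) ⁻¹ᵁ d.W₀

theorem preimage_Wo {i j : d.Iᵒᵖ} (f : i ⟶ j) : d.D.map f ⁻¹ᵁ d.Wo j = d.Wo i := by
  rw [Wo, Wo, ← Scheme.Hom.comp_preimage, ← Functor.map_comp, Subsingleton.elim (f ≫ d.bot j) (d.bot i)]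

theorem compact_Wo (i : d.Iᵒᵖ) : IsCompact (d.Wo i : Set (d.D.obj i)) :=
  (d.D.map (d.bot i)).isCompact_preimage d.compactW₀

instance (i : d.Iᵒᵖ) : CompactSpace (d.Wo i).toScheme := isCompact_iff_compactSpace.mp (d.compact_Wo i)

/-- the diagram of the common open -/
noncomputable def DW : d.Iᵒᵖ ⥤ Scheme.{u} where
  obj i := (d.Wo i).toScheme
  map f := (d.D.map f).resLE _ _ (d.preimage_Wo f).ge
  map_id i := by simp
  map_comp f g := by simp [Scheme.Hom.resLE_comp_resLE]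

/-- the inclusion -/
noncomputable def ιW : d.DW ⟶ d.D where
  app i := (d.Wo i).ι
  naturality i j f := by simp [DW]

instance (i : d.Iᵒᵖ) : IsOpenImmersion (d.ιW.app i) := inferInstanceAs (IsOpenImmersion (d.Wo i).ι)

theorem range_ιW {i j : d.Iᵒᵖ} (f : i ⟶ j) : d.D.map f ⁻¹' Set.range (d.ιW.app j) = Set.range (d.ιW.app i) := by
  show d.D.map f ⁻¹' Set.range (d.Wo j).ι = Set.range (d.Wo i).ι
  rw [Scheme.Opens.range_ι, Scheme.Opens.range_ι, ← d.preimage_Wo f]
  rfl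

theorem preimage_π (i : d.Iᵒᵖ) : d.π.app i ⁻¹ᵁ d.Wo i = d.jU.opensRange := by
  have e : d.π.app i ≫ d.D.map (d.bot i) = d.π.app (op d.i₀) := (Cone.mk d.U d.π).w _
  rw [Wo, ← Scheme.Hom.comp_preimage, e]
  exact TopologicalSpace.Opens.ext d.preimage

/-- the projections of the common open -/
noncomputable def pW (i : d.Iᵒᵖ) : d.W.toScheme ⟶ (d.Wo i).toScheme :=
  IsOpenImmersion.lift (d.Wo i).ι (d.jU ≫ d.π.app i) (by
    rintro _ ⟨x, rfl⟩
    rw [Scheme.Opens.range_ι]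
    exact (d.preimage_π i).ge ⟨x, rfl⟩)

@[reassoc (attr := simp)] theorem pW_ι (i : d.Iᵒᵖ) : d.pW i ≫ (d.Wo i).ι = d.jU ≫ d.π.app i :=
  IsOpenImmersion.lift_fac _ _ _

@[reassoc (attr := simp)] theorem pW_map {i j : d.Iᵒᵖ} (f : i ⟶ j) : d.pW i ≫ d.DW.map f = d.pW j := by
  rw [← cancel_mono (d.Wo j).ι]
  simp only [DW, Category.assoc, Scheme.Hom.resLE_comp_ι, pW_ι, pW_ι_assoc]
  exact congrArg (d.jU ≫ ·) ((Cone.mk d.U d.π).w f)

theorem isPullback_pW (i : d.Iᵒᵖ) : IsPullback d.jU (d.pW i) (d.π.app i) (d.Wo i).ι :=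
  (IsOpenImmersion.isPullback (d.pW i) d.jU (d.Wo i).ι (d.π.app i) (d.pW_ι i).symm (by
    rw [Scheme.Opens.opensRange_ι]; exact d.preimage_π i)).flip

instance (i : d.Iᵒᵖ) : IsAffineHom (d.pW i) :=
  MorphismProperty.of_isPullback (P := @IsAffineHom) (d.isPullback_pW i) inferInstance

/-- the cone of the common open -/
noncomputable def cW : Cone d.DW where
  pt := d.W.toScheme
  π :=
  { app := d.pW
    naturality := fun i j f => (Category.id_comp _).trans (d.pW_map f).symm }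

theorem cW_π (i : d.Iᵒᵖ) : d.cW.π.app i = d.pW i := rfl

theorem isConnected : IsConnected d.Iᵒᵖ :=
  have : IsCofiltered d.Iᵒᵖ := isCofiltered_op_of_isFiltered _
  IsCofiltered.isConnected _

/-- the common open is the limit -/
noncomputable def isLimitCW : IsLimit d.cW :=
  have : IsOpenImmersion d.jU := d.open_jU
  let σ : ∀ s : Cone d.DW, s.pt ⟶ d.U := fun s => d.isLim.lift ((Cone.postcompose d.ιW).obj s)
  have hσ : ∀ (s : Cone d.DW) (i : d.Iᵒᵖ), σ s ≫ d.π.app i = s.π.app i ≫ (d.Wo i).ι := fun s i =>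
    d.isLim.fac ((Cone.postcompose d.ιW).obj s) i
  have hr : ∀ s : Cone d.DW, Set.range (σ s) ⊆ Set.range d.jU := fun s => by
    rintro _ ⟨x, rfl⟩
    have h : σ s x ∈ d.π.app (op d.i₀) ⁻¹ᵁ d.Wo (op d.i₀) := by
      show (σ s ≫ d.π.app (op d.i₀)) x ∈ d.Wo (op d.i₀)
      rw [hσ]
      exact (s.π.app (op d.i₀) x).2
    exact (d.preimage_π _).le h
  { lift := fun s => IsOpenImmersion.lift d.jU (σ s) (hr s)
    fac := fun s i => by
      show IsOpenImmersion.lift d.jU (σ s) (hr s) ≫ d.pW i = s.π.app i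
      rw [← cancel_mono (d.Wo i).ι, Category.assoc, pW_ι, IsOpenImmersion.lift_fac_assoc, hσ]
    uniq := fun s m hm => by
      rw [← cancel_mono d.jU, IsOpenImmersion.lift_fac]
      refine d.isLim.hom_ext fun i => ?_
      show (m ≫ d.jU) ≫ d.π.app i = σ s ≫ d.π.app i
      rw [hσ, ← hm i, Category.assoc, ← d.pW_ι i, Category.assoc]
      rfl }

/-- sections of the stage inside the sections of the common open -/
noncomputable def ρ (i : d.Iᵒᵖ) : Γ((d.Wo i).toScheme, ⊤) →+* Γ(d.W.toScheme, ⊤) := (d.pW i).appTop.hom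

theorem ρ_map {i j : d.Iᵒᵖ} (f : i ⟶ j) (x : Γ((d.Wo j).toScheme, ⊤)) :
    d.ρ i ((d.DW.map f).appTop x) = d.ρ j x := by
  rw [ρ, ρ, ← d.pW_map f, Scheme.Hom.comp_appTop]
  rfl

theorem range_ρ_mono {i j : d.Iᵒᵖ} (f : i ⟶ j) : (d.ρ j).range ≤ (d.ρ i).range := by
  rintro _ ⟨x, rfl⟩
  exact ⟨_, d.ρ_map f x⟩

/-- restriction to the common open -/
noncomputable def r : d.A →+* Γ(d.W.toScheme, ⊤) :=
  (d.W.ι.appTop.hom).comp (Scheme.ΓSpecIso (CommRingCat.of d.A)).inv.hom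

end Step

end Groth.Agent.RelApprox
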